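import Mathlib

/-!
# Dimension count for the natural module (S4351, piece P3)
-/

set_option autoImplicit false

namespace Cfsg.Agent.H81.MtP3d

open Module

variable {F V : Type*} [Field F] [AddCommGroup V] [Module F V] [FiniteDimensional F V]

theorem finrank_map_add {f : V →ₗ[F] V} {p : Submodule F V} (h : LinearMap.ker f ≤ p) :
    finrank F (p.map f) + finrank F (LinearMap.ker f) = finrank F p := by
  have h1 := LinearMap.finrank_range_add_finrank_ker (f.domRestrict p)
  rw [LinearMap.range_domRestrict] at h1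
  have h2 : LinearMap.ker (f.domRestrict p) = (LinearMap.ker f).comap p.subtype := by
    rw [LinearMap.ker_domRestrict]
  rw [h2, (Submodule.comapSubtypeEquivOfLe h).finrank_eq] at h1
  exact h1

/-- `ker m = Y = range m` gives `dim V = 2 dim Y`. -/
theorem two_mul_finrank {m : V →ₗ[F] V} {Y : Submodule F V} (h1 : LinearMap.ker m = Y) (h2 : LinearMap.range m = Y) :
    finrank F V = 2 * finrank F Y := by
  have h := LinearMap.finrank_range_add_finrank_ker m
  rw [h1, h2] at h
  omega

/-- All Jordan blocks of `n` have size `4`. -/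
theorem four_mul_finrank {n : V →ₗ[F] V} (h4 : ∀ v, n (n (n (n v))) = 0)
    (h3 : ∀ v, n v = 0 → ∃ v', v = n (n (n v'))) : finrank F V = 4 * finrank F (LinearMap.ker n) := by
  have hk : LinearMap.ker n ≤ (((⊤ : Submodule F V).map n).map n).map n := by
    intro v hv
    obtain ⟨v', rfl⟩ := h3 v (LinearMap.mem_ker.1 hv)
    exact Submodule.mem_map_of_mem (Submodule.mem_map_of_mem (Submodule.mem_map_of_mem Submodule.mem_top))
  have hk2 : LinearMap.ker n ≤ ((⊤ : Submodule F V).map n).map n :=
    hk.trans (Submodule.map_mono (Submodule.map_mono le_top))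
  have hk1 : LinearMap.ker n ≤ (⊤ : Submodule F V).map n :=
    hk2.trans (Submodule.map_mono le_top)
  have e0 := finrank_map_add (f := n) (p := ⊤) le_top
  have e1 := finrank_map_add hk1
  have e2 := finrank_map_add hk2
  have e3 := finrank_map_add hk
  have e4 : ((((⊤ : Submodule F V).map n).map n).map n).map n = ⊥ := by
    rw [eq_bot_iff]
    rintro x ⟨x3, ⟨x2, ⟨x1, ⟨x0, -, rfl⟩, rfl⟩, rfl⟩, rfl⟩
    rw [h4]; exact Submodule.zero_mem _
  rw [e4, finrank_bot] at e3
  rw [finrank_top] at e0
  omega

/-- The dimension count. -/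
theorem dim_count {n : V →ₗ[F] V} (h4 : ∀ v, n (n (n (n v))) = 0)
    (h3 : ∀ v, n v = 0 → ∃ v', v = n (n (n v'))) {Y : Submodule F V} (hY : finrank F V = 2 * finrank F Y)
    (hkY : ∀ v, n v = 0 → v ∈ Y) {u : V} (hu : u ≠ 0) (hnu : n u = 0) (hYu : ∀ y ∈ Y, ∃ c : F, n y = c • u) :
    finrank F V = 4 ∧ finrank F Y = 2 ∧ ∀ v, n v = 0 → ∃ c : F, v = c • u := by
  have e := four_mul_finrank h4 h3
  have hk : LinearMap.ker n ≤ Y := fun v hv => hkY v (LinearMap.mem_ker.1 hv)
  have e1 := finrank_map_add hk
  have e2 : finrank F (Y.map n) ≤ 1 := by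
    have : Y.map n ≤ Submodule.span F {u} := by
      rintro x ⟨y, hy, rfl⟩
      obtain ⟨c, hc⟩ := hYu y hy
      rw [hc]; exact Submodule.smul_mem _ _ (Submodule.mem_span_singleton_self u)
    exact (Submodule.finrank_mono this).trans (finrank_span_singleton hu).le
  have hsp : Submodule.span F {u} ≤ LinearMap.ker n := by
    rw [Submodule.span_singleton_le_iff_mem]; exact LinearMap.mem_ker.2 hnu
  have e3 : 1 ≤ finrank F (LinearMap.ker n) := by
    have := Submodule.finrank_mono hsp
    rwa [finrank_span_singleton hu] at this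
  have hk1 : finrank F (LinearMap.ker n) = 1 := by omega
  refine ⟨by omega, by omega, fun v hv => ?_⟩
  have : Submodule.span F {u} = LinearMap.ker n :=
    Submodule.eq_of_le_of_finrank_eq hsp (by rw [finrank_span_singleton hu, hk1])
  have hv' : v ∈ Submodule.span F {u} := by rw [this]; exact LinearMap.mem_ker.2 hv
  obtain ⟨c, hc⟩ := Submodule.mem_span_singleton.1 hv'
  exact ⟨c, hc.symm⟩

/-- A two-dimensional subspace containing `u ≠ 0` is spanned by `u` and one more vector. -/
theorem two_span {Y : Submodule F V} (h2 : finrank F Y = 2) {u : V} (hu : u ≠ 0) (huY : u ∈ Y) :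
    ∃ y ∈ Y, (∀ c : F, y ≠ c • u) ∧ ∀ v ∈ Y, ∃ c d : F, v = c • u + d • y := by
  have hle : Submodule.span F {u} ≤ Y := by
    rw [Submodule.span_singleton_le_iff_mem]; exact huY
  have hlt : Submodule.span F {u} < Y := by
    refine lt_of_le_of_ne hle fun h => ?_
    rw [← h, finrank_span_singleton hu] at h2
    omega
  obtain ⟨y, hy, hyu⟩ := SetLike.exists_of_lt hlt
  have hyu' : ∀ c : F, y ≠ c • u := fun c hc => hyu (Submodule.mem_span_singleton.2 ⟨c, hc.symm⟩)
  refine ⟨y, hy, hyu', ?_⟩
  have hli : LinearIndependent F ![u, y] := by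
    rw [LinearIndependent.pair_iff' hu]
    intro c hc
    exact hyu' c hc.symm
  have hsp : Submodule.span F (Set.range ![u, y]) = Y := by
    refine Submodule.eq_of_le_of_finrank_eq ?_ ?_
    · rw [Submodule.span_le]
      rintro x ⟨i, rfl⟩
      fin_cases i
      · exact huY
      · exact hy
    · rw [finrank_span_eq_card hli, h2]; rfl
  intro v hv
  rw [← hsp] at hv
  simp only [Matrix.range_cons, Matrix.range_empty, Set.union_empty, Set.singleton_union] at hv
  obtain ⟨c, d, h⟩ := Submodule.mem_span_pair.1 hv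
  exact ⟨c, d, h.symm⟩

end Cfsg.Agent.H81.MtP3d
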