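import Cfsg.Agent.H71.MtRel
import Cfsg.Agent.H81.MtP3d

/-!
# The natural module has dimension four (S4351, piece P3)
-/

set_option autoImplicit false

namespace Cfsg.Agent.H81.MtP3

open Module Cfsg.Agent.H71.Mt

universe v

variable {X : Type*} [Group X] [Finite X] {F : Type} [Field F] [Fintype F] {θ : F ≃+* F} {S E K : Subgroup X}
  {w s0 : X} {a b κ : X → F}

theorem mulF {V : Type*} [AddCommGroup V] [Module F V] (ρ : Representation F X V) (g h : X) (v : V) :
    ρ (g * h) v = ρ g (ρ h v) := by rw [map_mul]; rfl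

theorem invF {V : Type*} [AddCommGroup V] [Module F V] (ρ : Representation F X V) {g : X} {v v' : V}
    (h : ρ g v = v') : ρ g⁻¹ v' = v := by
  rw [← h, ← mulF, inv_mul_cancel, map_one]; rfl

/-- `K` acts on `u` by scalars. -/
theorem K_u (D : SzD θ S E K w s0 a b κ) {V : Type v} [AddCommGroup V] [Module F V]
    (ρ : Representation F X V) {u : V} (hus : ∀ s ∈ S, ρ s u = u)
    (hu1 : ∀ v : V, (∀ s ∈ S, ρ s v = v) → ∃ c : F, v = c • u) {k : X} (hk : k ∈ K) : ∃ c : F, ρ k u = c • u := by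
  refine hu1 _ fun r hr => ?_
  have h1 : k⁻¹ * r * k ∈ S := by
    have := D.KS k⁻¹ (K.inv_mem hk) r hr
    rwa [inv_inv] at this
  have h3 : r * k = k * (k⁻¹ * r * k) := by group
  rw [← mulF, h3, mulF, hus _ h1]

/-- The orbit of `u` lies in `F u ∪ F S w u`. -/
theorem orbit_u (D : SzD θ S E K w s0 a b κ) {V : Type v} [AddCommGroup V] [Module F V]
    (ρ : Representation F X V) {u : V} (hus : ∀ s ∈ S, ρ s u = u)
    (hu1 : ∀ v : V, (∀ s ∈ S, ρ s v = v) → ∃ c : F, v = c • u) (g : X) :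
    (∃ c : F, ρ g u = c • u) ∨ ∃ c : F, ∃ s ∈ S, ρ g u = c • ρ s (ρ w u) := by
  rcases D.bruhat g with ⟨s, hs, k, hk, rfl⟩ | ⟨s, hs, k, hk, r, hr, rfl⟩
  · left
    obtain ⟨c, hc⟩ := K_u D ρ hus hu1 hk
    refine ⟨c, ?_⟩
    rw [mulF, hc, map_smul, hus s hs]
  · right
    obtain ⟨c, hc⟩ := K_u D ρ hus hu1 (K.inv_mem hk)
    refine ⟨c, s, hs, ?_⟩
    have hkw : k * w = w * k⁻¹ := by
      have h3 : w * k⁻¹ * w * w = k * w := by rw [D.wK k⁻¹ (K.inv_mem hk), inv_inv]
      rw [mul_assoc (w * k⁻¹), D.ww, mul_one] at h3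
      exact h3.symm
    have e1 : s * k * w * r = s * (w * k⁻¹) * r := by rw [← hkw]; group
    rw [e1, mulF, hus r hr, mulF, mulF, hc, map_smul, map_smul]

/-- A property of vectors closed under linear combinations and true on the orbit of `u` is always true. -/
theorem all_of_orbit {V : Type v} [AddCommGroup V] [Module F V]
    (ρ : Representation F X V) (hi : IrrF ρ) {u : V} (hu : u ≠ 0) (P : Submodule F V) (hP : ∀ g, ρ g u ∈ P)
    (v : V) : v ∈ P := by
  have h : Submodule.span F (Set.range fun g => ρ g u) = ⊤ := by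
    refine (hi.2 _ ?_).resolve_left ?_
    · intro g v hv
      induction hv using Submodule.span_induction with
      | mem x hx =>
        obtain ⟨h, rfl⟩ := hx
        refine Submodule.subset_span ⟨g * h, ?_⟩
        exact mulF ρ g h u
      | zero => rw [map_zero]; exact Submodule.zero_mem _
      | add x y _ _ hx hy => rw [map_add]; exact Submodule.add_mem _ hx hy
      | smul c x _ hx => rw [map_smul]; exact Submodule.smul_mem _ _ hx
    · intro h0
      apply hu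
      have : u ∈ Submodule.span F (Set.range fun g => ρ g u) :=
        Submodule.subset_span ⟨1, by simp⟩
      rw [h0] at this
      exact (Submodule.mem_bot F).1 this
  have hv : v ∈ Submodule.span F (Set.range fun g => ρ g u) := by rw [h]; exact Submodule.mem_top
  have hle : Submodule.span F (Set.range fun g => ρ g u) ≤ P := by
    rw [Submodule.span_le]
    rintro x ⟨g, rfl⟩
    exact hP g
  exact hle hv

theorem fix_iff [CharP F 2] {V : Type*} [AddCommGroup V] [Module F V] {x v : V} : x + v = 0 ↔ x = v := by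
  constructor
  · intro h
    have : x + v + v = v := by rw [h, zero_add]
    rwa [add_assoc, two_zero (F := F), add_zero] at this
  · rintro rfl
    exact two_zero (F := F) _

/-- Step (1): for `s = k s0 k⁻¹`, `(1 + s)(1 + s²) V ≤ F u`. -/
theorem step1 (D : SzD θ S E K w s0 a b κ) {V : Type v} [AddCommGroup V] [Module F V]
    (ρ : Representation F X V) (hf : FpfF ρ) (hi : IrrF ρ) {u : V} (hu : u ≠ 0) (hus : ∀ s ∈ S, ρ s u = u)
    (hu1 : ∀ v : V, (∀ s ∈ S, ρ s v = v) → ∃ c : F, v = c • u)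
    (hq2 : ∀ t ∈ E, ∀ e ∈ E, ∀ v : V, ρ e (ρ t v + v) = ρ t v + v) {k : X} (hk : k ∈ K) {s : X}
    (hs : s = k * s0 * k⁻¹) (v : V) :
    ∃ c : F, ρ s (ρ (s * s) v + v) + (ρ (s * s) v + v) = c • u := by
  haveI := D.char
  have hsS : s ∈ S := by rw [hs]; exact D.KS k hk s0 D.s0S
  have hssE : s * s ∈ E := D.Ssq s hsS
  let P : Submodule F V :=
    { carrier := {v | ∃ c : F, ρ s (ρ (s * s) v + v) + (ρ (s * s) v + v) = c • u}
      zero_mem' := ⟨0, by simp⟩
      add_mem' := by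
        rintro x y ⟨c, hc⟩ ⟨d, hd⟩
        refine ⟨c + d, ?_⟩
        rw [add_smul, ← hc, ← hd]
        simp only [map_add]
        abel
      smul_mem' := by
        rintro c x ⟨d, hd⟩
        refine ⟨c * d, ?_⟩
        rw [mul_smul, ← hd]
        simp only [map_add, map_smul, smul_add] }
  have hP : ∀ g, ρ g u ∈ P := by
    intro g
    rcases orbit_u D ρ hus hu1 g with ⟨c, hc⟩ | ⟨c, r, hr, hc⟩
    · rw [hc]
      refine P.smul_mem c ?_
      refine ⟨0, ?_⟩
      rw [hus _ (D.ES hssE), two_zero (F := F), map_zero, zero_smul, add_zero]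
    · rw [hc]
      refine P.smul_mem c ?_
      obtain ⟨c', hc'⟩ := K_u D ρ hus hu1 (K.mul_mem hk hk)
      refine ⟨c', ?_⟩
      have hrel := D.relF_conj ρ hf u hus hk hs
      obtain ⟨y, hy⟩ : ∃ y, y = ρ (s * s) (ρ w u) + ρ w u := ⟨_, rfl⟩
      have hy1 : ρ s y + y = c' • u := by
        rw [← hc', ← hrel, hy, map_add, ← mulF]
        have : s * (s * s) = s * s * s := by group
        rw [this]
        abel
      have e1 : ρ (s * s) (ρ r (ρ w u)) + ρ r (ρ w u) = ρ r y := by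
        rw [hy, map_add, ← mulF, D.Ecen _ hssE r hr, mulF]
      -- the commutator
      obtain ⟨e, he⟩ : ∃ e, e = (r * s)⁻¹ * (s * r) := ⟨_, rfl⟩
      have heE : e ∈ E := by
        have h1 := S.mul_mem hr hsS
        have h2 := S.mul_mem hsS hr
        have h3 : e ∈ S := by rw [he]; exact S.mul_mem (S.inv_mem h1) h2
        refine (D.a_zero e h3).1 ?_
        have h4 := D.a_mul _ h1 _ h3
        have h5 : r * s * e = s * r := by rw [he]; group
        rw [h5, D.a_mul _ hsS _ hr, D.a_mul _ hr _ hsS, add_comm (a s)] at h4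
        exact (add_eq_left.1 h4.symm)
      have hsr : s * r = r * s * e := by rw [he]; group
      have e2 : ρ s (ρ r y) = ρ r (ρ s y) := by
        have hey : ρ e y = y := by rw [hy]; exact hq2 _ hssE _ heE _
        rw [← mulF, hsr, mulF, hey, mulF]
      rw [e1, e2, ← map_add, hy1, map_smul, hus r hr]
  exact all_of_orbit ρ hi hu P hP v

/-- [P3] -/
theorem dim_four (D : SzD θ S E K w s0 a b κ) {V : Type v} [AddCommGroup V] [Module F V] [Finite V]
    (ρ : Representation F X V) (hf : FpfF ρ) (hi : IrrF ρ) {u : V} (hu : u ≠ 0) (hus : ∀ s ∈ S, ρ s u = u)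
    (hu1 : ∀ v : V, (∀ s ∈ S, ρ s v = v) → ∃ c : F, v = c • u)
    (hq1 : ∀ t ∈ E, t ≠ 1 → ∀ v : V, ρ t v = v → ∃ v' : V, v = ρ t v' + v')
    (hq2 : ∀ t ∈ E, ∀ e ∈ E, ∀ v : V, ρ e (ρ t v + v) = ρ t v + v) :
    Module.finrank F V = 4 ∧
    (∀ x ∈ S, ∀ y : V, (∀ t ∈ E, ρ t y = y) → ∃ c : F, ρ x y = y + c • u) ∧
    (∀ x ∈ S, x ∉ E → ∀ v : V, ρ x v = v → ∃ c : F, v = c • u) ∧
    ∃ y : V, (∀ t ∈ E, ρ t y = y) ∧ (∀ c : F, y ≠ c • u) ∧
      ∀ v : V, (∀ t ∈ E, ρ t v = v) → ∃ c d : F, v = c • u + d • y := by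
  haveI := D.char
  haveI : FiniteDimensional F V := Module.Finite.of_finite
  -- squares of elements outside `E`
  have hsq : ∀ x ∈ S, x ∉ E → x * x ∈ E ∧ x * x ≠ 1 := by
    intro x hx hxE
    refine ⟨D.Ssq x hx, fun h => ?_⟩
    have h1 := D.b_sq x hx
    rw [(D.b_zero _ (D.Ssq x hx)).2 h] at h1
    rcases mul_eq_zero.1 h1.symm with h2 | h2
    · exact hxE ((D.a_zero x hx).1 h2)
    · exact hxE ((D.a_zero x hx).1 ((map_eq_zero θ).1 h2))
  -- the subspace `Y`
  let Y : Submodule F V :=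
    { carrier := {v | ∀ t ∈ E, ρ t v = v}
      zero_mem' := fun t _ => map_zero _
      add_mem' := fun {x y} hx hy t ht => by rw [map_add, hx t ht, hy t ht]
      smul_mem' := fun c x hx t ht => by rw [map_smul, hx t ht] }
  have hYfix : ∀ t ∈ E, t ≠ 1 → ∀ v, ρ t v = v → v ∈ Y := by
    intro t ht ht1 v hv e he
    obtain ⟨v', hv'⟩ := hq1 t ht ht1 v hv
    rw [hv']; exact hq2 t ht e he v'
  have hs0E : s0 ∉ E := fun h => D.s0a ((D.a_zero s0 D.s0S).2 h)
  obtain ⟨ht0, ht01⟩ := hsq s0 D.s0S hs0E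
  -- step (1)
  have hc1 : ∀ x ∈ S, ∀ y ∈ Y, ∃ c : F, ρ x y = y + c • u := by
    intro x hx y hy
    by_cases hxE : x ∈ E
    · exact ⟨0, by rw [hy x hxE, zero_smul, add_zero]⟩
    obtain ⟨k, hk, e, he, hxe⟩ := D.exists_conj_s0 hx hxE
    obtain ⟨s, hs⟩ : ∃ s, s = k * s0 * k⁻¹ := ⟨_, rfl⟩
    have hsS : s ∈ S := by rw [hs]; exact D.KS k hk s0 D.s0S
    have hsE : s ∉ E := by
      intro h
      apply hxE
      rw [hxe, ← hs]; exact E.mul_mem h he
    obtain ⟨h1, h2⟩ := hsq s hsS hsE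
    obtain ⟨v', hv'⟩ := hq1 _ h1 h2 y (hy _ h1)
    obtain ⟨c, hc⟩ := step1 D ρ hf hi hu hus hu1 hq2 hk hs v'
    rw [← hv'] at hc
    refine ⟨c, ?_⟩
    rw [hxe, ← hs, mulF, hy e he, ← hc, add_comm (ρ s y) y, ← add_assoc, two_zero (F := F), zero_add]
  -- linear algebra
  let m : V →ₗ[F] V := ρ (s0 * s0) + LinearMap.id
  have hm : ∀ v, m v = ρ (s0 * s0) v + v := fun v => rfl
  let n : V →ₗ[F] V := ρ s0 + LinearMap.id
  have hn : ∀ v, n v = ρ s0 v + v := fun v => rfl
  have hkm : LinearMap.ker m = Y := by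
    ext v
    rw [LinearMap.mem_ker, hm, fix_iff (F := F)]
    exact ⟨fun h => hYfix _ ht0 ht01 v h, fun h => h _ ht0⟩
  have hrm : LinearMap.range m = Y := by
    ext v
    constructor
    · rintro ⟨v', rfl⟩
      exact fun e he => hq2 _ ht0 e he v'
    · intro h
      obtain ⟨v', hv'⟩ := hq1 _ ht0 ht01 v (h _ ht0)
      exact ⟨v', hv'.symm⟩
  have hnn : ∀ v, n (n v) = m v := by
    intro v
    rw [hn, hn, hm, map_add, ← mulF]
    have : ρ s0 v + (ρ s0 v + v) = v := by rw [← add_assoc, two_zero (F := F), zero_add]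
    rw [add_assoc, this]
  have hmm : ∀ v, m (m v) = 0 := by
    intro v
    rw [hm, hm, map_add, ← mulF, D.Esq _ ht0, map_one]
    have : (1 : V →ₗ[F] V) v = v := rfl
    rw [this]
    have h3 : v + ρ (s0 * s0) v + (ρ (s0 * s0) v + v) = (v + v) + (ρ (s0 * s0) v + ρ (s0 * s0) v) := by abel
    rw [h3, two_zero (F := F), two_zero (F := F), add_zero]
  obtain ⟨f1, f2, f3⟩ := MtP3d.dim_count (n := n) (Y := Y) (u := u)
    (by intro v; rw [hnn, hnn, hmm])
    (by
      intro v hv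
      rw [hn, fix_iff (F := F)] at hv
      refine ⟨ρ w v, ?_⟩
      rw [hnn, hn, hm, map_add, ← mulF ρ (s0 * s0) s0 (ρ w v)]
      refine (D.relF ρ hf v hv).symm.trans ?_
      abel)
    (MtP3d.two_mul_finrank hkm hrm)
    (by
      intro v hv
      rw [hn, fix_iff (F := F)] at hv
      refine hYfix _ ht0 ht01 v ?_
      rw [mulF, hv, hv])
    hu
    (by rw [hn, hus _ D.s0S, two_zero (F := F)])
    (by
      intro y hy
      obtain ⟨c, hc⟩ := hc1 s0 D.s0S y hy
      refine ⟨c, ?_⟩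
      rw [hn, hc, add_comm y, add_assoc, two_zero (F := F), add_zero])
  have huY : u ∈ Y := fun t ht => hus t (D.ES ht)
  obtain ⟨y, hyY, hyu, hyv⟩ := MtP3d.two_span f2 hu huY
  refine ⟨f1, hc1, ?_, y, hyY, hyu, hyv⟩
  intro x hx hxE v hv
  obtain ⟨h1, h2⟩ := hsq x hx hxE
  have hvY : v ∈ Y := hYfix _ h1 h2 v (by rw [mulF, hv, hv])
  obtain ⟨k, hk, e, he, hxe⟩ := D.exists_conj_s0 hx hxE
  have h3 : ρ (k * s0 * k⁻¹) v = v := by
    rw [hxe, mulF, hvY e he] at hv
    exact hv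
  have h4 : ρ s0 (ρ k⁻¹ v) = ρ k⁻¹ v := by
    rw [mulF, mulF] at h3
    exact (invF ρ h3).symm
  obtain ⟨c, hc⟩ := f3 (ρ k⁻¹ v) (by rw [hn, h4, two_zero (F := F)])
  obtain ⟨d, hd⟩ := K_u D ρ hus hu1 hk
  refine ⟨c * d, ?_⟩
  have h5 := invF ρ hc
  rw [inv_inv, map_smul, hd] at h5
  rw [mul_smul, h5]

end Cfsg.Agent.H81.MtP3
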