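import Cfsg.Agent.Char.PermLemma
import Cfsg.Agent.Char.Clifford

set_option autoImplicit false

/-! Real characters and real classes of a normal subgroup of odd index. -/

namespace Cfsg.Agent.H81

open Cfsg Cfsg.Agent.CharBase
open scoped ComplexConjugate

section burn
/-- Burnside counting as an equality of orbit numbers for two actions with the same fixed point counts -/
theorem orbits_eq_of_fix {A X Y : Type*} [Group A] [Finite A] [MulAction A X] [MulAction A Y] [Finite X] [Finite Y]
    (h : ∀ a : A, Nat.card (MulAction.fixedBy X a) = Nat.card (MulAction.fixedBy Y a)) :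
    Nat.card (MulAction.orbitRel.Quotient A X) = Nat.card (MulAction.orbitRel.Quotient A Y) := by
  classical
  have : Fintype A := Fintype.ofFinite A
  have : Fintype X := Fintype.ofFinite X
  have : Fintype Y := Fintype.ofFinite Y
  have : Fintype (Quotient (MulAction.orbitRel A X)) := Fintype.ofFinite _
  have : Fintype (Quotient (MulAction.orbitRel A Y)) := Fintype.ofFinite _
  have h1 := MulAction.sum_card_fixedBy_eq_card_orbits_mul_card_group A X
  have h2 := MulAction.sum_card_fixedBy_eq_card_orbits_mul_card_group A Y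
  have h3 : ∑ a : A, Fintype.card (MulAction.fixedBy X a) = ∑ a : A, Fintype.card (MulAction.fixedBy Y a) := by
    refine Finset.sum_congr rfl (fun a _ => ?_)
    rw [← Nat.card_eq_fintype_card, ← Nat.card_eq_fintype_card]
    exact h a
  rw [h1, h2] at h3
  have h4 := Nat.eq_of_mul_eq_mul_right Fintype.card_pos h3
  change Nat.card (Quotient (MulAction.orbitRel A X)) = Nat.card (Quotient (MulAction.orbitRel A Y))
  rw [Nat.card_eq_fintype_card, Nat.card_eq_fintype_card]
  exact h4

end burn

section fix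
variable {K : Type*} [Group K] [Finite K]

/-- number of real characters fixed by an automorphism of odd order modulo inner automorphisms -/
theorem card_real_fixed (σ : MulAut K) (m : ℕ) (hm : Odd m) (t : K) (hσ : σ ^ m = MulAut.conj t) :
    Nat.card {θ : IrrCharacter K // (∀ k, ((θ : K → ℂ) k).im = 0) ∧ ∀ k, (θ : K → ℂ) (σ k) = (θ : K → ℂ) k} =
      Nat.card {C : ConjClasses K // ∀ k, ConjClasses.mk k = C → IsConj k k⁻¹ ∧ IsConj (σ k) k} := by
  classical
  have hFK : Fintype K := Fintype.ofFinite K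
  have hirr : ∀ χ : IrrCharacter K, IsIrrCharacter K (fun k => (χ : K → ℂ) ((σ k)⁻¹)) := by
    intro χ
    have h1 := isIrrCharacter_inv χ.2
    exact isIrrCharacter_comp_surjective (f := σ.toMonoidHom) h1 σ.surjective
  have hcl : ∀ g h : K, IsConj g h → IsConj ((σ g)⁻¹) ((σ h)⁻¹) := by
    intro g h hgh
    obtain ⟨c, hc⟩ := isConj_iff.1 hgh
    rw [isConj_iff]
    refine ⟨σ c, ?_⟩
    rw [← hc, map_mul, map_mul, map_inv]; group
  have hmain := Cfsg.Agent.Char.PL.card_fixed_irr_eq (G := K) (fun k => (σ k)⁻¹) hirr hcl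
  -- a function `F` on `K`, class function with `F ((σ k)⁻¹) = F k` : real and σ-invariant
  obtain ⟨j, hj⟩ := hm
  have hconjt : ∀ (F : K → ℂ), IsClassFunction K F → ∀ k, F ((σ ^ m) k) = F k := by
    intro F hF k
    rw [hσ, MulAut.conj_apply]
    exact hF k t
  -- characters
  have h1 : Nat.card {χ : IrrCharacter K // (fun g => (χ : K → ℂ) ((fun k => (σ k)⁻¹) g)) = χ} =
      Nat.card {θ : IrrCharacter K // (∀ k, ((θ : K → ℂ) k).im = 0) ∧ ∀ k, (θ : K → ℂ) (σ k) = (θ : K → ℂ) k} := by
    refine Nat.card_congr (Equiv.subtypeEquivRight (fun χ => ?_))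
    have hcf := irr_isClassFunction χ
    have hreal : (∀ k, ((χ : K → ℂ) k).im = 0) ↔ ∀ k, (χ : K → ℂ) k⁻¹ = (χ : K → ℂ) k := by
      refine forall_congr' (fun k => ?_)
      rw [irr_inv, Complex.conj_eq_iff_im]
    rw [hreal]
    constructor
    · intro h
      have h2 : ∀ k, (χ : K → ℂ) ((σ k)⁻¹) = (χ : K → ℂ) k := fun k => congrFun h k
      have h3 : ∀ k, (χ : K → ℂ) ((σ ^ 2) k) = (χ : K → ℂ) k := by
        intro k
        rw [← h2 k, ← h2 ((σ k)⁻¹), map_inv, inv_inv]
        rfl
      have h4 : ∀ (i : ℕ) k, (χ : K → ℂ) ((σ ^ (2 * i)) k) = (χ : K → ℂ) k := by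
        intro i
        induction i with
        | zero => intro k; simp
        | succ i ih =>
          intro k
          rw [show 2 * (i + 1) = 2 * i + 2 by ring, pow_add]
          change (χ : K → ℂ) ((σ ^ (2 * i)) ((σ ^ 2) k)) = _
          rw [ih, h3]
      have h5 : ∀ k, (χ : K → ℂ) (σ k) = (χ : K → ℂ) k := by
        intro k
        have h6 := hconjt _ hcf k
        rw [hj, pow_succ] at h6
        change (χ : K → ℂ) ((σ ^ (2 * j)) (σ k)) = _ at h6
        rw [h4] at h6
        exact h6
      refine ⟨fun k => ?_, h5⟩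
      have h7 := h2 (σ⁻¹ k)
      have h8 := h5 (σ⁻¹ k)
      rw [MulAut.apply_inv_self] at h7 h8
      rw [h7, h8]
    · rintro ⟨h2, h3⟩
      funext k
      change (χ : K → ℂ) ((σ k)⁻¹) = (χ : K → ℂ) k
      rw [h2, h3]
  -- classes
  have h1' : Nat.card {C : ConjClasses K // ∀ g, ConjClasses.mk g = C → IsConj ((fun k => (σ k)⁻¹) g) g} =
      Nat.card {C : ConjClasses K // ∀ k, ConjClasses.mk k = C → IsConj k k⁻¹ ∧ IsConj (σ k) k} := by
    refine Nat.card_congr (Equiv.subtypeEquivRight (fun C => ?_))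
    obtain ⟨x, rfl⟩ := ConjClasses.exists_rep C
    -- everything happens for the single element `x`
    have hcl1 : ∀ g h : K, IsConj g h → IsConj (σ g) (σ h) := by
      intro g h hgh
      obtain ⟨c, hc⟩ := isConj_iff.1 hgh
      rw [isConj_iff]
      exact ⟨σ c, by rw [← hc, map_mul, map_mul, map_inv]⟩
    have hcinv : ∀ g h : K, IsConj g h → IsConj g⁻¹ h⁻¹ := by
      intro g h hgh
      obtain ⟨c, hc⟩ := isConj_iff.1 hgh
      rw [isConj_iff]
      exact ⟨c, by rw [← hc]; group⟩
    constructor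
    · intro h k hk
      have h2 : ∀ g, IsConj g x → IsConj ((σ g)⁻¹) g := fun g hg => h g (ConjClasses.mk_eq_mk_iff_isConj.2 hg)
      have hkx : IsConj k x := ConjClasses.mk_eq_mk_iff_isConj.1 hk
      have h3 : IsConj ((σ k)⁻¹) k := h2 k hkx
      -- σ² k ~ k
      have h4 : ∀ i : ℕ, IsConj ((σ ^ (2 * i)) k) k := by
        intro i
        induction i with
        | zero => rw [mul_zero, pow_zero]; exact IsConj.refl k
        | succ i ih =>
          rw [show 2 * (i + 1) = 2 + 2 * i by ring, pow_add]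
          change IsConj (σ (σ ((σ ^ (2 * i)) k))) k
          have h5 := hcl1 _ _ (hcl1 _ _ ih)
          refine h5.trans ?_
          -- σ σ k ~ k
          have h6 : IsConj ((σ ((σ k)⁻¹))⁻¹) ((σ k)⁻¹) := by
            exact (hcl _ _ h3)
          rw [map_inv, inv_inv] at h6
          exact h6.trans h3
      have h5 : IsConj (σ k) k := by
        have h6 : IsConj ((σ ^ m) k) k := by
          rw [hσ, MulAut.conj_apply]
          exact IsConj.symm (isConj_iff.2 ⟨t, rfl⟩)
        rw [hj, pow_succ'] at h6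
        change IsConj (σ ((σ ^ (2 * j)) k)) k at h6
        exact (hcl1 _ _ (h4 j)).symm.trans h6
      refine ⟨?_, h5⟩
      have h7 := h3.symm.trans (hcinv _ _ h5)
      exact h7
    · intro h g hg
      obtain ⟨h2, h3⟩ := h g hg
      exact (hcinv _ _ h3).trans h2.symm
  rw [← h1, ← h1']
  exact hmain

end fix

section action
variable {G : Type*} [Group G] [Finite G] (K : Subgroup G) [K.Normal]

omit [Finite G] in
theorem conjNormal_val (g : G) (k : K) : ((MulAut.conjNormal g k : K) : G) = g * k * g⁻¹ := by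
  simp [MulAut.conjNormal_apply]

/-- real-valued irreducible characters -/
abbrev RealIrr (K : Type*) [Group K] := {θ : IrrCharacter K // ∀ k, ((θ : K → ℂ) k).im = 0}

/-- real classes -/
abbrev RealCl (K : Type*) [Group K] := {C : ConjClasses K // ∀ k, ConjClasses.mk k = C → IsConj k k⁻¹}

/-- action of `G` on the real irreducible characters of `K` -/
@[instance_reducible] noncomputable def actIrr : MulAction G (RealIrr K) where
  smul g θ := ⟨⟨fun k => (θ.1 : K → ℂ) (MulAut.conjNormal g⁻¹ k),
    isIrrCharacter_comp_surjective (f := (MulAut.conjNormal g⁻¹ : MulAut K).toMonoidHom) θ.1.2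
      (MulAut.conjNormal g⁻¹ : MulAut K).surjective⟩, fun k => θ.2 _⟩
  one_smul θ := by
    apply Subtype.ext; apply Subtype.ext
    funext k
    change (θ.1 : K → ℂ) (MulAut.conjNormal (1 : G)⁻¹ k) = (θ.1 : K → ℂ) k
    rw [inv_one, map_one]; rfl
  mul_smul g h θ := by
    apply Subtype.ext; apply Subtype.ext
    funext k
    change (θ.1 : K → ℂ) (MulAut.conjNormal (g * h)⁻¹ k) = (θ.1 : K → ℂ) (MulAut.conjNormal h⁻¹ (MulAut.conjNormal g⁻¹ k))
    rw [mul_inv_rev, map_mul]; rfl

omit [Finite G] in
theorem isConj_conjNormal (g : G) {x y : K} (h : IsConj x y) :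
    IsConj (MulAut.conjNormal g x) (MulAut.conjNormal g y) := by
  obtain ⟨c, hc⟩ := isConj_iff.1 h
  rw [isConj_iff]
  exact ⟨MulAut.conjNormal g c, by rw [← hc, map_mul, map_mul, map_inv]⟩

omit [Finite G] in
theorem map_mk_conjNormal (g : G) (x : K) :
    ConjClasses.map (MulAut.conjNormal g : MulAut K).toMonoidHom (ConjClasses.mk x) =
      ConjClasses.mk (MulAut.conjNormal g x) := rfl

/-- action of `G` on the real classes of `K` -/
@[instance_reducible] noncomputable def actCl : MulAction G (RealCl K) where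
  smul g C := ⟨ConjClasses.map (MulAut.conjNormal g : MulAut K).toMonoidHom C.1, by
    obtain ⟨C, hC⟩ := C
    obtain ⟨x, rfl⟩ := ConjClasses.exists_rep C
    intro k hk
    change ConjClasses.mk k = ConjClasses.mk (MulAut.conjNormal g x) at hk
    rw [ConjClasses.mk_eq_mk_iff_isConj] at hk
    have h1 := hC x rfl
    have h2 := isConj_conjNormal K g h1
    rw [map_inv] at h2
    refine hk.trans (h2.trans ?_)
    obtain ⟨c, hc⟩ := isConj_iff.1 hk.symm
    rw [isConj_iff]
    exact ⟨c, by rw [← hc]; group⟩⟩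
  one_smul C := by
    obtain ⟨C, hC⟩ := C
    obtain ⟨x, rfl⟩ := ConjClasses.exists_rep C
    apply Subtype.ext
    change ConjClasses.mk (MulAut.conjNormal (1 : G) x) = ConjClasses.mk x
    rw [map_one]; rfl
  mul_smul g h C := by
    obtain ⟨C, hC⟩ := C
    obtain ⟨x, rfl⟩ := ConjClasses.exists_rep C
    apply Subtype.ext
    change ConjClasses.mk (MulAut.conjNormal (g * h) x) =
      ConjClasses.mk (MulAut.conjNormal g (MulAut.conjNormal h x))
    rw [map_mul]; rfl

/-- for `K` normal of odd index the numbers of `G`-orbits on real characters and real classes agree -/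
theorem card_orbits_real (hodd : Odd K.index) :
    (letI := actIrr K; Nat.card (MulAction.orbitRel.Quotient G (RealIrr K))) =
      (letI := actCl K; Nat.card (MulAction.orbitRel.Quotient G (RealCl K))) := by
  classical
  let a1 := actIrr K
  let a2 := actCl K
  have hFK : Fintype K := Fintype.ofFinite K
  have : Finite (ConjClasses K) := Quotient.finite _
  have hfin1 : Finite (RealIrr K) := inferInstance
  have hfin2 : Finite (RealCl K) := inferInstance
  refine orbits_eq_of_fix (A := G) (X := RealIrr K) (Y := RealCl K) (fun g => ?_)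
  have hσ : (MulAut.conjNormal g : MulAut K) ^ K.index = MulAut.conj ⟨g ^ K.index, K.pow_index_mem g⟩ := by
    rw [← map_pow]
    ext k
    rw [conjNormal_val, MulAut.conj_apply]
    rfl
  have hmain := card_real_fixed (MulAut.conjNormal g : MulAut K) K.index hodd _ hσ
  have h1 : Nat.card (MulAction.fixedBy (RealIrr K) g) =
      Nat.card {θ : IrrCharacter K // (∀ k, ((θ : K → ℂ) k).im = 0) ∧ ∀ k, (θ : K → ℂ) (MulAut.conjNormal g k) = (θ : K → ℂ) k} := by
    refine Nat.card_congr ⟨fun θ => ⟨θ.1.1, θ.1.2, ?_⟩, fun θ => ⟨⟨θ.1, θ.2.1⟩, ?_⟩, fun _ => rfl, fun _ => rfl⟩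
    · intro k
      have h2 : g • θ.1 = θ.1 := θ.2
      have h3 : (θ.1.1 : K → ℂ) (MulAut.conjNormal g⁻¹ (MulAut.conjNormal g k)) = (θ.1.1 : K → ℂ) (MulAut.conjNormal g k) :=
        congrFun (congrArg (fun z : RealIrr K => (z.1 : K → ℂ)) h2) (MulAut.conjNormal g k)
      rw [← h3, ← MulAut.mul_apply, ← map_mul, inv_mul_cancel, map_one]; rfl
    · rw [MulAction.mem_fixedBy]
      apply Subtype.ext; apply Subtype.ext
      funext k
      change (θ.1 : K → ℂ) (MulAut.conjNormal g⁻¹ k) = (θ.1 : K → ℂ) k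
      have h2 := θ.2.2 (MulAut.conjNormal g⁻¹ k)
      rw [← h2, ← MulAut.mul_apply, ← map_mul, mul_inv_cancel, map_one]; rfl
  have h2 : Nat.card (MulAction.fixedBy (RealCl K) g) =
      Nat.card {C : ConjClasses K // ∀ k, ConjClasses.mk k = C → IsConj k k⁻¹ ∧ IsConj (MulAut.conjNormal g k) k} := by
    refine Nat.card_congr ⟨fun C => ⟨C.1.1, ?_⟩, fun C => ⟨⟨C.1, fun k hk => (C.2 k hk).1⟩, ?_⟩, fun _ => rfl, fun _ => rfl⟩
    · intro k hk
      refine ⟨C.1.2 k hk, ?_⟩
      have h3 : g • C.1 = C.1 := C.2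
      have h4 : ConjClasses.map (MulAut.conjNormal g : MulAut K).toMonoidHom C.1.1 = C.1.1 :=
        congrArg Subtype.val h3
      rw [← hk] at h4
      exact ConjClasses.mk_eq_mk_iff_isConj.1 h4
    · rw [MulAction.mem_fixedBy]
      apply Subtype.ext
      obtain ⟨C, hC⟩ := C
      obtain ⟨x, rfl⟩ := ConjClasses.exists_rep C
      exact ConjClasses.mk_eq_mk_iff_isConj.2 (hC x rfl).2
  rw [h1, h2]
  exact hmain

end action

end Cfsg.Agent.H81
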