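import Cfsg.Agent.S4866
import Cfsg.Agent.H81.RealOrb
import Cfsg.Agent.H81.Sqrt

set_option autoImplicit false

/-! Real characters over real characters of a normal subgroup of odd index. -/

namespace Cfsg.Agent.H81

open Cfsg Cfsg.Agent.CharBase Cfsg.Agent.Char Cfsg.Agent.H52
open scoped ComplexConjugate

section
variable {G : Type*} [Group G]

theorem mem_of_pow_index_mem {N : Subgroup G} [N.Normal] {I : Subgroup G} (hNI : N ≤ I) (hodd : Odd N.index) {g : G}
    (h : g * g ∈ I) : g ∈ I := by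
  obtain ⟨j, hj⟩ := hodd
  have h1 : g ^ N.index ∈ I := hNI (N.pow_index_mem g)
  have h2 : g = ((g * g) ^ j)⁻¹ * g ^ N.index := by
    rw [hj, pow_succ, pow_mul, sq]; group
  rw [h2]
  exact I.mul_mem (I.inv_mem (I.pow_mem h j)) h1

theorem inv_conj_pow {x g : G} (h : x * g * x⁻¹ = g⁻¹) : ∀ m, Odd m → x ^ m * g * (x ^ m)⁻¹ = g⁻¹ := by
  have h2 : x ^ 2 * g * (x ^ 2)⁻¹ = g := by
    have : x ^ 2 * g * (x ^ 2)⁻¹ = x * (x * g * x⁻¹) * x⁻¹ := by rw [sq]; simp only [mul_inv_rev, mul_assoc]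
    rw [this, h]
    have h3 : x * g⁻¹ * x⁻¹ = (x * g * x⁻¹)⁻¹ := by group
    rw [h3, h, inv_inv]
  have h3 : ∀ j : ℕ, x ^ (2 * j) * g * (x ^ (2 * j))⁻¹ = g := by
    intro j
    induction j with
    | zero => simp
    | succ j ih =>
      have : x ^ (2 * (j + 1)) * g * (x ^ (2 * (j + 1)))⁻¹ = x ^ 2 * (x ^ (2 * j) * g * (x ^ (2 * j))⁻¹) * (x ^ 2)⁻¹ := by
        rw [show 2 * (j + 1) = 2 + 2 * j by ring, pow_add]; group
      rw [this, ih, h2]
  rintro m ⟨j, rfl⟩
  have : x ^ (2 * j + 1) * g * (x ^ (2 * j + 1))⁻¹ = x * (x ^ (2 * j) * g * (x ^ (2 * j))⁻¹) * x⁻¹ := by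
    rw [show 2 * j + 1 = 1 + 2 * j by ring, pow_add, pow_one]; group
  rw [this, h3, h]

/-- a real element of `G` lies in a normal subgroup of odd index and is real there -/
theorem real_mem_of_odd (N : Subgroup G) [N.Normal] (hodd : Odd N.index) {g : G} (h : IsConj g g⁻¹) :
    ∃ hg : g ∈ N, IsConj (⟨g, hg⟩ : N) (⟨g, hg⟩ : N)⁻¹ := by
  obtain ⟨x, hx⟩ := isConj_iff.1 h
  have h1 := inv_conj_pow hx N.index hodd
  have hn : x ^ N.index ∈ N := N.pow_index_mem x
  set n := x ^ N.index with hndef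
  have h2 : g * g ∈ N := by
    have : g * g = (n * (g * n⁻¹ * g⁻¹))⁻¹ := by
      have h3 : n * (g * n⁻¹ * g⁻¹) = (n * g * n⁻¹) * g⁻¹ := by group
      rw [h3, h1, mul_inv_rev, inv_inv]
    rw [this]
    exact N.inv_mem (N.mul_mem hn (Subgroup.Normal.conj_mem inferInstance _ (N.inv_mem hn) g))
  have hg : g ∈ N := mem_of_pow_index_mem le_rfl hodd h2
  refine ⟨hg, isConj_iff.2 ⟨⟨n, hn⟩, ?_⟩⟩
  apply Subtype.ext
  exact h1

end

section counting
variable {G : Type*} [Group G] [Finite G] (N : Subgroup G) [N.Normal]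

/-- number of real irreducible characters of `G` = number of real classes -/
theorem card_real_irr (G : Type*) [Group G] [Finite G] :
    Nat.card (RealIrr G) = Nat.card {C : ConjClasses G // ∀ g, ConjClasses.mk g = C → IsConj g⁻¹ g} := by
  classical
  have hFG : Fintype G := Fintype.ofFinite G
  have h := Cfsg.Agent.Char.PL.card_fixed_irr_eq (G := G) (fun g => g⁻¹) (fun χ => isIrrCharacter_inv χ.2) (by
    intro g h hgh
    obtain ⟨c, hc⟩ := isConj_iff.1 hgh
    rw [isConj_iff]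
    exact ⟨c, by rw [← hc]; group⟩)
  rw [← h]
  refine Nat.card_congr (Equiv.subtypeEquivRight (fun χ => ?_))
  rw [funext_iff]
  refine forall_congr' (fun k => ?_)
  rw [irr_inv, Complex.conj_eq_iff_im]

/-- number of real irreducible characters of `G` = number of `G`-orbits on real characters of `N` -/
theorem card_real_irr_eq_orbits (hodd : Odd N.index) :
    Nat.card (RealIrr G) = Nat.card (Quot (fun θ η : {θ : Cfsg.IrrCharacter ↥N // (∀ k : ↥N, ((θ : ↥N → ℂ) k).im = 0)} => ∃ g : G, ∀ k k' : ↥N, (k' : G) = g * (k : G) * g⁻¹ → (η.1 : ↥N → ℂ) k' = (θ.1 : ↥N → ℂ) k)) := by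
  rw [Cfsg.Agent.S4866.result N hodd, card_real_irr]
  symm
  have hreal : ∀ x y : G, IsConj x y → IsConj x x⁻¹ → IsConj y⁻¹ y := by
    intro x y hxy hx
    have h1 : IsConj x⁻¹ y⁻¹ := by
      obtain ⟨c, hc⟩ := isConj_iff.1 hxy
      rw [isConj_iff]
      exact ⟨c, by rw [← hc]; group⟩
    exact h1.symm.trans (hx.symm.trans hxy)
  have hval : ∀ x y : N, IsConj x y → IsConj (x : G) (y : G) := by
    intro x y hxy
    obtain ⟨c, hc⟩ := isConj_iff.1 hxy
    exact isConj_iff.2 ⟨c, congrArg Subtype.val hc⟩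
  refine Nat.card_congr (Equiv.ofBijective (Quot.lift (fun x : {x : ↥N // IsConj x x⁻¹} =>
    (⟨ConjClasses.mk (x.1 : G), fun g hg => hreal x.1 g (ConjClasses.mk_eq_mk_iff_isConj.1 hg).symm (hval _ _ x.2)⟩ :
      {C : ConjClasses G // ∀ g, ConjClasses.mk g = C → IsConj g⁻¹ g})) ?_) ⟨?_, ?_⟩)
  · rintro x y ⟨g, hg⟩
    apply Subtype.ext
    exact ConjClasses.mk_eq_mk_iff_isConj.2 (isConj_iff.2 ⟨g, hg.symm⟩)
  · intro x y
    induction x using Quot.ind with | _ x =>
    induction y using Quot.ind with | _ y =>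
    intro hxy
    have h1 : ConjClasses.mk (x.1 : G) = ConjClasses.mk (y.1 : G) := congrArg Subtype.val hxy
    obtain ⟨c, hc⟩ := isConj_iff.1 (ConjClasses.mk_eq_mk_iff_isConj.1 h1)
    exact Quot.sound ⟨c, hc.symm⟩
  · rintro ⟨C, hC⟩
    obtain ⟨g, rfl⟩ := ConjClasses.exists_rep C
    obtain ⟨hg, hc⟩ := real_mem_of_odd N hodd (hC g rfl).symm
    exact ⟨Quot.mk _ ⟨⟨g, hg⟩, hc⟩, rfl⟩

end counting

section overN
variable {G : Type*} [Group G] [Fintype G] (N : Subgroup G) [N.Normal] [Fintype N]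

/-- constituents of the restriction of a real irreducible character are real -/
theorem real_of_constituent (hodd : Odd N.index) {χ : G → ℂ} (hχ : IsIrrCharacter G χ) (hreal : ∀ g, (χ g).im = 0)
    {θ : N → ℂ} (hθ : IsIrrCharacter N θ) (hc : classInner (fun n : N => χ n) θ ≠ 0) : ∀ n, (θ n).im = 0 := by
  have hθ' : IsIrrCharacter N (fun n => conj (θ n)) := isIrrCharacter_conj hθ
  have hc' : classInner (fun n : N => χ n) (fun n => conj (θ n)) ≠ 0 := by
    intro h0
    apply hc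
    have h1 : conj (classInner (fun n : N => χ n) (fun n => conj (θ n))) = classInner (fun n : N => χ n) θ := by
      unfold classInner
      rw [map_mul, map_inv₀, map_natCast, map_sum]
      congr 1
      refine Finset.sum_congr rfl (fun n _ => ?_)
      rw [map_mul, Complex.conj_conj]
      have : conj (χ n) = χ n := Complex.conj_eq_iff_im.2 (hreal n)
      rw [this]
    rw [← h1, h0, map_zero]
  obtain ⟨g, hg⟩ := exists_conj_of_constituents N hχ hθ hθ' hc hc'
  have h2 : cj N (g * g) θ = θ := by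
    rw [cj_mul, hg]
    funext n
    have h3 : cj N g (fun n => conj (θ n)) n = conj (cj N g θ n) := rfl
    rw [h3, hg, Complex.conj_conj]
  have h4 : g ∈ inertia N θ := mem_of_pow_index_mem (le_inertia N (isClassFunction_of_isCharacter (isCharacter_of_isIrr hθ))) hodd h2
  have h5 : cj N g θ = θ := h4
  rw [hg] at h5
  intro n
  exact Complex.conj_eq_iff_im.1 (congrFun h5 n)

/-- the indicator of a character of `N` as a sum -/
theorem fsi_eq_sum_over [Fintype (IrrCharacter G)] (hodd : Odd N.index) (φ : IrrCharacter N) :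
    fsi (φ : N → ℂ) = ∑ χ : IrrCharacter G, fsi (χ : G → ℂ) * classInner (fun n : N => (χ : G → ℂ) n) (φ : N → ℂ) := by
  classical
  have hFN : Fintype (IrrCharacter N) := Fintype.ofFinite _
  have h1 : ∀ n : N, ∑ χ : IrrCharacter G, fsi (χ : G → ℂ) * (χ : G → ℂ) n = ∑ θ : IrrCharacter N, fsi (θ : N → ℂ) * (θ : N → ℂ) n := by
    intro n
    rw [← card_sqrt, ← card_sqrt]
    norm_cast
    refine Nat.card_congr ⟨fun u => ⟨⟨u.1, ?_⟩, ?_⟩, fun u => ⟨u.1.1, ?_⟩, fun _ => rfl, fun _ => rfl⟩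
    · apply mem_of_pow_index_mem le_rfl hodd
      rw [u.2]; exact n.2
    · apply Subtype.ext
      exact u.2
    · have := congrArg Subtype.val u.2
      exact this
  have h2 : (fun n : N => ∑ χ : IrrCharacter G, fsi (χ : G → ℂ) * (χ : G → ℂ) n) =
      fun n : N => ∑ θ : IrrCharacter N, fsi (θ : N → ℂ) * (θ : N → ℂ) n := funext h1
  have h3 : classInner (fun n : N => ∑ χ : IrrCharacter G, fsi (χ : G → ℂ) * (χ : G → ℂ) n) (φ : N → ℂ) =
      ∑ χ : IrrCharacter G, fsi (χ : G → ℂ) * classInner (fun n : N => (χ : G → ℂ) n) (φ : N → ℂ) := by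
    have h4 : (fun n : N => ∑ χ : IrrCharacter G, fsi (χ : G → ℂ) * (χ : G → ℂ) n) =
        ∑ χ : IrrCharacter G, (fsi (χ : G → ℂ)) • (fun n : N => (χ : G → ℂ) n) := by
      funext n; simp [Finset.sum_apply]
    rw [h4, classInner_sum_left]
    exact Finset.sum_congr rfl (fun χ _ => classInner_smul_left _ _ _)
  have h5 : classInner (fun n : N => ∑ θ : IrrCharacter N, fsi (θ : N → ℂ) * (θ : N → ℂ) n) (φ : N → ℂ) =
      fsi (φ : N → ℂ) := by
    have h4 : (fun n : N => ∑ θ : IrrCharacter N, fsi (θ : N → ℂ) * (θ : N → ℂ) n) =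
        ∑ θ : IrrCharacter N, (fsi (θ : N → ℂ)) • (fun n : N => (θ : N → ℂ) n) := by
      funext n; simp [Finset.sum_apply]
    rw [h4, classInner_sum_left, Finset.sum_eq_single φ]
    · rw [classInner_smul_left]
      have : classInner (fun n : N => (φ : N → ℂ) n) (φ : N → ℂ) = 1 := classInner_irr_self φ
      rw [this, mul_one]
    · intro θ _ hne
      rw [classInner_smul_left]
      have : classInner (fun n : N => (θ : N → ℂ) n) (φ : N → ℂ) = 0 := classInner_irr_of_ne hne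
      rw [this, mul_zero]
    · intro h; exact absurd (Finset.mem_univ _) h
  rw [← h3, h2, h5]

omit [Fintype N] in
/-- **odd index**: a real irreducible character of `N` lies under a unique real irreducible character of `G` -/
theorem unique_real_over [Fintype N] (hodd : Odd N.index) (φ : IrrCharacter N) (hφ : ∀ n, ((φ : N → ℂ) n).im = 0) :
    ∃! χ : IrrCharacter G, (∀ g, ((χ : G → ℂ) g).im = 0) ∧ classInner (fun n : N => (χ : G → ℂ) n) (φ : N → ℂ) ≠ 0 := by
  classical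
  have hFI : Fintype (IrrCharacter G) := Fintype.ofFinite _
  -- existence for every real character
  have hex : ∀ φ : IrrCharacter N, (∀ n, ((φ : N → ℂ) n).im = 0) → ∃ χ : IrrCharacter G,
      (∀ g, ((χ : G → ℂ) g).im = 0) ∧ classInner (fun n : N => (χ : G → ℂ) n) (φ : N → ℂ) ≠ 0 := by
    intro φ hφ
    have h1 := fsi_eq_sum_over N hodd φ
    have h2 : fsi (φ : N → ℂ) ≠ 0 := by
      intro h0
      obtain ⟨s, hs⟩ := (fsi_eq_zero_iff φ.2).1 h0
      exact hs (hφ s)
    rw [h1] at h2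
    obtain ⟨χ, -, hχ⟩ := Finset.exists_ne_zero_of_sum_ne_zero h2
    refine ⟨χ, ?_, right_ne_zero_of_mul hχ⟩
    by_contra hcon
    push Not at hcon
    exact left_ne_zero_of_mul hχ ((fsi_eq_zero_iff χ.2).2 hcon)
  -- the map to orbits
  let r : RealIrr N → RealIrr N → Prop := fun θ η => ∃ g : G, ∀ k k' : ↥N, (k' : G) = g * (k : G) * g⁻¹ → (η.1 : ↥N → ℂ) k' = (θ.1 : ↥N → ℂ) k
  have hr : ∀ (θ η : RealIrr N) (g : G), cj N g (η.1 : N → ℂ) = (θ.1 : N → ℂ) → r θ η := by
    intro θ η g hg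
    refine ⟨g, fun k k' hk => ?_⟩
    have h9 : k' = ⟨g * k * g⁻¹, Subgroup.Normal.conj_mem inferInstance (k : G) k.2 g⟩ := Subtype.ext hk
    rw [← hg, cj_apply, h9]
  have hcon : ∀ χ : RealIrr G, ∃ θ : RealIrr N, classInner (fun n : N => (χ.1 : G → ℂ) n) (θ.1 : N → ℂ) ≠ 0 := by
    intro χ
    obtain ⟨θ, hθ, hc⟩ := exists_constituent_restrict N (isCharacter_of_isIrr χ.1.2) (irr_one_ne_zero χ.1.2)
    exact ⟨⟨⟨θ, hθ⟩, real_of_constituent N hodd χ.1.2 χ.2 hθ hc⟩, hc⟩
  choose c hc using hcon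
  let f : RealIrr G → Quot r := fun χ => Quot.mk r (c χ)
  have hf : ∀ (χ : RealIrr G) (θ : RealIrr N), classInner (fun n : N => (χ.1 : G → ℂ) n) (θ.1 : N → ℂ) ≠ 0 → f χ = Quot.mk r θ := by
    intro χ θ hθ
    obtain ⟨g, hg⟩ := exists_conj_of_constituents N χ.1.2 θ.1.2 (c χ).1.2 hθ (hc χ)
    exact Quot.sound (hr _ _ g hg)
  have hsurj : Function.Surjective f := by
    intro q
    induction q using Quot.ind with | _ θ =>
    obtain ⟨χ, h1, h2⟩ := hex θ.1 θ.2
    exact ⟨⟨χ, h1⟩, hf ⟨χ, h1⟩ θ h2⟩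
  have hcard : Nat.card (RealIrr G) = Nat.card (Quot r) := card_real_irr_eq_orbits N hodd
  have hbij : Function.Bijective f := (Nat.bijective_iff_surjective_and_card f).2 ⟨hsurj, hcard⟩
  obtain ⟨χ, h1, h2⟩ := hex φ hφ
  refine ⟨χ, ⟨h1, h2⟩, ?_⟩
  rintro χ' ⟨h1', h2'⟩
  have h3 := hf ⟨χ, h1⟩ ⟨φ, hφ⟩ h2
  have h4 := hf ⟨χ', h1'⟩ ⟨φ, hφ⟩ h2'
  have h5 := hbij.1 (h4.trans h3.symm)
  exact congrArg Subtype.val h5

end overN

end Cfsg.Agent.H81
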